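import Mathlib.Algebra.Homology.DerivedCategory.TStructure
import Mathlib.Algebra.Homology.DerivedCategory.HomologySequence
import Mathlib.CategoryTheory.Triangulated.TStructure.TruncLEGT
import Mathlib.Algebra.Homology.DerivedCategory.FullyFaithful

/-!
# The lowest cohomology of an object concentrated in non-negative degrees
-/

set_option autoImplicit false
set_option backward.isDefEq.respectTransparency false
set_option linter.style.haveILetI false

universe w v u

open CategoryTheory CategoryTheory.Limits DerivedCategory Pretriangulated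

noncomputable section

namespace Groth.Agent.OmegaShriekLib

variable {C : Type u} [Category.{v} C] [Abelian C] [HasDerivedCategory.{w} C]

/-- An object in non-negative degrees receives a universal map from a single module. -/
theorem exists_bottom (L : DerivedCategory C) [L.IsGE 0] :
    ∃ (N : C) (i : (singleFunctor C 0).obj N ⟶ L),
      (∀ M : C, Function.Bijective fun g : M ⟶ N => (singleFunctor C 0).map g ≫ i) ∧
        IsIso ((homologyFunctor C 0).map i) := by
  let t := (TStructure.t : Triangulated.TStructure (DerivedCategory C))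
  let T := (t.truncLE 0).obj L
  haveI : T.IsLE 0 := inferInstanceAs (t.IsLE ((t.truncLE 0).obj L) 0)
  haveI : T.IsGE 0 := inferInstanceAs (t.IsGE ((t.truncLE 0).obj L) 0)
  obtain ⟨N, ⟨e⟩⟩ := exists_iso_singleFunctor_obj_of_isGE_of_isLE T 0
  refine ⟨N, e.inv ≫ (t.truncLEι 0).app L, fun M => ⟨fun a b h => ?_, fun f => ?_⟩, ?_⟩
  · refine (singleFunctor C 0).map_injective ((cancel_mono e.inv).1 ?_)
    haveI : t.IsLE ((singleFunctor C 0).obj M) 0 := inferInstanceAs (((singleFunctor C 0).obj M).IsLE 0)
    exact t.to_truncLE_obj_ext (by simpa using h)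
  · haveI : t.IsLE ((singleFunctor C 0).obj M) 0 := inferInstanceAs (((singleFunctor C 0).obj M).IsLE 0)
    obtain ⟨g, hg⟩ := (singleFunctor C 0).map_surjective (t.liftTruncLE f 0 ≫ e.hom)
    refine ⟨g, ?_⟩
    show (singleFunctor C 0).map g ≫ e.inv ≫ (t.truncLEι 0).app L = f
    rw [hg]
    simp
  · haveI : IsIso ((homologyFunctor C 0).map ((t.truncLEι 0).app L)) := by
      have hd := t.triangleLEGT_distinguished 0 L
      have hz : ∀ i : ℤ, i ≤ 0 → IsZero ((homologyFunctor C i).obj ((t.triangleLEGT 0).obj L).obj₃) := fun i hi => by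
        haveI : DerivedCategory.IsGE ((t.triangleLEGT 0).obj L).obj₃ 1 :=
          inferInstanceAs (t.IsGE ((t.truncGT 0).obj L) (0 + 1))
        exact isZero_of_isGE _ 1 i (by omega)
      haveI : Mono ((homologyFunctor C 0).map ((t.truncLEι 0).app L)) :=
        (HomologySequence.mono_homologyMap_mor₁_iff _ hd (-1) 0 (by omega)).2 ((hz (-1) (by omega)).eq_of_src _ _)
      haveI : Epi ((homologyFunctor C 0).map ((t.truncLEι 0).app L)) :=
        (HomologySequence.epi_homologyMap_mor₁_iff _ hd 0).2 ((hz 0 le_rfl).eq_of_tgt _ _)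
      exact isIso_of_mono_of_epi _
    rw [Functor.map_comp]
    infer_instance

end Groth.Agent.OmegaShriekLib
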